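import Mathlib
import Cfsg.Prelude.Def_OddOrderLocal
import Cfsg.Agent.Lib.BrauerInd.BrauerSuzuki
import Cfsg.Agent.Lib.BrauerInd.Nilpotent

/-!
A TI-subgroup which is a Hall subgroup with normal complement in its normalizer has a normal
complement in the whole group.
-/

set_option autoImplicit false

namespace Cfsg.Agent.Lib.TIHall

open Subgroup

universe u

variable {G : Type u} [Group G]

/-- An element with order prime to `[N : H]` in the normalizer `N` of `H` lies in `H`. -/
theorem mem_of_pow_eq_one [Finite G] {H : Subgroup G}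
    (hHall : (Nat.card H).Coprime (H.subgroupOf (normalizer (H : Set G))).index) {x : G}
    (hx : x ∈ normalizer (H : Set G)) (hord : orderOf x ∣ Nat.card H) : x ∈ H := by
  set H' := H.subgroupOf (normalizer (H : Set G))
  haveI : H'.Normal := Subgroup.normal_in_normalizer
  let y : normalizer (H : Set G) := ⟨x, hx⟩
  have h1 : ((y : normalizer (H : Set G) ⧸ H')) = 1 := by
    refine orderOf_eq_one_iff.mp (Nat.eq_one_of_dvd_coprimes hHall ?_ ?_)
    · exact (orderOf_map_dvd (QuotientGroup.mk' H') y).trans (by rw [Subgroup.orderOf_mk]; exact hord)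
    · rw [index_eq_card]; exact orderOf_dvd_natCard _
  exact (QuotientGroup.eq_one_iff y).mp h1

/-- A TI Hall subgroup of its normalizer is a Hall subgroup. -/
theorem coprime_index [Finite G] {H : Subgroup G} (hTI : Cfsg.IsTISubset (H : Set G))
    (hHall : (Nat.card H).Coprime (H.subgroupOf (normalizer (H : Set G))).index) :
    (Nat.card H).Coprime H.index := by
  by_contra hnc
  obtain ⟨p, hp, hpH, hpi⟩ := Nat.Prime.not_coprime_iff_dvd.mp hnc
  haveI := Fact.mk hp
  obtain ⟨P₀⟩ : Nonempty (Sylow p H) := inferInstance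
  set Q := (P₀ : Subgroup H).map H.subtype with hQ
  have hQH : Q ≤ H := map_subtype_le _
  have hQp : IsPGroup p Q := P₀.2.map _
  obtain ⟨P, hP⟩ := hQp.exists_le_sylow
  have hQ1 : Q ≠ ⊥ := fun e => P₀.ne_bot_of_dvd_card hpH
    ((Subgroup.map_eq_bot_iff_of_injective _ H.subtype_injective).mp e)
  -- any `p`-group in the normalizer of `H` lies in `H`
  have hin : ∀ R : Subgroup G, IsPGroup p R → R ≤ normalizer (H : Set G) → R ≤ H := by
    intro R hR hRN x hx
    refine mem_of_pow_eq_one hHall (hRN hx) ?_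
    obtain ⟨k, hk⟩ := IsPGroup.iff_orderOf.mp hR ⟨x, hx⟩
    rw [Subgroup.orderOf_mk] at hk
    rw [hk]
    have h2 : ¬ p ∣ (H.subgroupOf (normalizer (H : Set G))).index := fun h =>
      hp.not_dvd_one (hHall ▸ Nat.dvd_gcd hpH h)
    have h3 : (p ^ k).Coprime (H.subgroupOf (normalizer (H : Set G))).index :=
      (hp.coprime_iff_not_dvd.mpr h2).pow_left k
    refine h3.dvd_of_dvd_mul_right ?_
    have h4 := card_mul_index (H.subgroupOf (normalizer (H : Set G)))
    rw [Nat.card_congr (subgroupOfEquivOfLe (le_normalizer (H := H))).toEquiv] at h4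
    rw [h4, ← hk, ← Subgroup.orderOf_mk x (hRN hx)]
    exact orderOf_dvd_natCard _
  have hPN : ∀ x ∈ normalizer (Q : Set G), x ∈ normalizer (H : Set G) := by
    intro x hx
    by_contra hxN
    refine hQ1 (le_bot_iff.mp fun q hq => mem_bot.mpr ?_)
    exact hTI x hxN q (hQH hq) (hQH ((mem_normalizer_iff.mp hx q).mp hq))
  have hPQ : (P : Subgroup G) ≤ Q := by
    by_contra hnot
    have hlt : Q.subgroupOf P < ⊤ :=
      lt_top_iff_ne_top.mpr fun e => hnot (subgroupOf_eq_top.mp e)
    haveI := P.2.isNilpotent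
    obtain ⟨x, hxn, hxQ⟩ := SetLike.exists_of_lt
      (Group.normalizerCondition_of_isNilpotent (Q.subgroupOf (P : Subgroup G)) hlt)
    have hxN : (x : G) ∈ normalizer (Q : Set G) := by
      rw [mem_normalizer_iff]
      intro q
      refine ⟨fun hq => ?_, fun hq => ?_⟩
      · exact (mem_normalizer_iff.mp hxn ⟨q, hP hq⟩).mp hq
      · have hqP : q ∈ (P : Subgroup G) := by
          have := mul_mem (mul_mem (inv_mem x.2) (hP hq)) x.2
          simpa [mul_assoc] using this
        exact (mem_normalizer_iff.mp hxn ⟨q, hqP⟩).mpr hq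
    set R := (P : Subgroup G) ⊓ normalizer (Q : Set G)
    have hRH : R ≤ H := hin R (P.2.to_le inf_le_left) fun y hy => hPN y hy.2
    have hQR : Q ≤ R := le_inf hP le_normalizer
    have hsub : (P₀ : Subgroup H) ≤ R.subgroupOf H := fun y hy => hQR ⟨y, hy, rfl⟩
    have heq := P₀.3 ((P.2.to_le inf_le_left).comap_subtype) hsub
    refine hxQ ?_
    change (x : G) ∈ Q
    have hxR : (x : G) ∈ R := ⟨x.2, hxN⟩
    exact ⟨⟨x, hRH hxR⟩, heq ▸ hxR, rfl⟩
  exact P.not_dvd_index (hpi.trans (index_dvd_of_le (hPQ.trans hQH)))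

/-- The TI Hall subgroup has a normal complement. -/
theorem exists_normal_complement [Finite G] {H : Subgroup G} (hTI : Cfsg.IsTISubset (H : Set G))
    (hHall : (Nat.card H).Coprime (H.subgroupOf (normalizer (H : Set G))).index)
    (hK : ∃ K : Subgroup (normalizer (H : Set G)), K.Normal ∧
      K.IsComplement' (H.subgroupOf (normalizer (H : Set G)))) :
    ∃ N : Subgroup G, N.Normal ∧ N.IsComplement' H := by
  set N := normalizer (H : Set G) with hN
  obtain ⟨K, hKn, hKc⟩ := hK
  haveI : (H.subgroupOf N).Normal := Subgroup.normal_in_normalizer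
  have hcop := coprime_index hTI hHall
  have hfus : ∀ x ∈ H, ∀ y ∈ H, IsConj x y → ∃ h ∈ H, h * x * h⁻¹ = y := by
    intro x hx y hy hxy
    obtain ⟨g, rfl⟩ := isConj_iff.mp hxy
    by_cases hx1 : x = 1
    · exact ⟨1, one_mem H, by simp [hx1]⟩
    have hg : g ∈ N := by
      by_contra hg
      exact hx1 (hTI g hg x hx hy)
    obtain ⟨⟨⟨k, hk⟩, ⟨h, hh⟩⟩, hkh⟩ := hKc.2 ⟨g, hg⟩
    refine ⟨h, hh, ?_⟩
    have hkx : (k : G) * ((h : G) * x * (h : G)⁻¹) = (h : G) * x * (h : G)⁻¹ * k := by
      have hm : (h : G) * x * (h : G)⁻¹ ∈ H := H.mul_mem (H.mul_mem hh hx) (H.inv_mem hh)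
      exact congrArg Subtype.val (Subgroup.commute_of_normal_of_disjoint K (H.subgroupOf N) hKn
        inferInstance hKc.disjoint k ⟨_, le_normalizer hm⟩ hk hm).eq
    have hkh' : (k : G) * (h : G) = g := congrArg Subtype.val hkh
    rw [← hkh', mul_inv_rev, show (k : G) * h * x * ((h : G)⁻¹ * (k : G)⁻¹) =
      (k : G) * ((h : G) * x * (h : G)⁻¹) * (k : G)⁻¹ by group, hkx, mul_inv_cancel_right]
  have helem : ∀ (E : Subgroup G) (p : ℕ), p.Prime → Cfsg.IsElementary p E →
      Nat.card E ∣ Nat.card H → ∃ g : G, E.map (MulAut.conj g).toMonoidHom ≤ H := by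
    intro E q hq hE hdvd
    haveI : Group.IsNilpotent E := BrauerInd.isNilpotent_of_isElementary hq hE
    rcases subsingleton_or_nontrivial E with hs | hn
    · refine ⟨1, ?_⟩
      rintro _ ⟨x, hx, rfl⟩
      have : (⟨x, hx⟩ : E) = 1 := Subsingleton.elim _ _
      simp [show x = 1 from congrArg Subtype.val this]
    have hne : Nontrivial (center E) :=
      (Subgroup.nontrivial_iff_ne_bot _).mpr (Group.IsNilpotent.center_ne_bot _)
    obtain ⟨p, hp, hpd⟩ := Nat.exists_prime_and_dvd (Finite.one_lt_card (α := center E)).ne'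
    haveI := Fact.mk hp
    obtain ⟨⟨z, hzc⟩, hz⟩ := exists_prime_orderOf_dvd_card' (G := center E) p hpd
    rw [Subgroup.orderOf_mk, ← Subgroup.orderOf_coe] at hz
    have hpH : p ∣ Nat.card H := (hz ▸ E.orderOf_dvd_natCard z.2).trans hdvd
    obtain ⟨P₀⟩ : Nonempty (Sylow p H) := inferInstance
    set Q := (P₀ : Subgroup H).map H.subtype
    have hQidx : ¬ p ∣ Q.index := by
      rw [index_map_subtype]
      exact fun h => (hp.dvd_mul.mp h).elim P₀.not_dvd_index
        fun h => hp.not_dvd_one (hcop ▸ Nat.dvd_gcd hpH h)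
    obtain ⟨P, hP⟩ := (IsPGroup.of_card (n := 1) (G := zpowers (z : G))
      (by rw [Nat.card_zpowers, hz, pow_one])).exists_le_sylow
    obtain ⟨g, hg⟩ := MulAction.exists_smul_eq G P ((P₀.2.map H.subtype).toSylow hQidx)
    refine ⟨g, ?_⟩
    have hzH : g * (z : G) * g⁻¹ ∈ H := by
      have h1 : g * (z : G) * g⁻¹ ∈ ((g • P : Sylow p G) : Subgroup G) := by
        rw [Sylow.coe_subgroup_smul]
        exact ⟨(z : G), hP (mem_zpowers _), rfl⟩
      rw [hg] at h1
      exact map_subtype_le _ h1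
    have hz1 : g * (z : G) * g⁻¹ ≠ 1 := fun e => by
      rw [conj_eq_one_iff] at e
      rw [e, orderOf_one] at hz
      exact hp.one_lt.ne hz
    rintro _ ⟨x, hx, rfl⟩
    change g * x * g⁻¹ ∈ H
    refine mem_of_pow_eq_one hHall ?_ ?_
    · by_contra hxN
      refine hz1 (hTI _ hxN _ hzH ?_)
      have hc : x * (z : G) = (z : G) * x := congrArg Subtype.val (mem_center_iff.mp hzc ⟨x, hx⟩)
      rw [show g * x * g⁻¹ * (g * (z : G) * g⁻¹) * (g * x * g⁻¹)⁻¹ =
        g * (x * (z : G)) * x⁻¹ * g⁻¹ by group, hc,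
        show g * ((z : G) * x) * x⁻¹ * g⁻¹ = g * (z : G) * g⁻¹ by group]
      exact hzH
    · have h2 : orderOf (g * x * g⁻¹) = orderOf x :=
        orderOf_injective (MulAut.conj g).toMonoidHom (MulAut.conj g).injective x
      rw [h2]
      exact (E.orderOf_dvd_natCard hx).trans hdvd
  obtain ⟨M, hM, hsup, hinf⟩ := BrauerInd.brauer_suzuki_complement H hcop hfus helem
  haveI := hM
  refine ⟨M, hM, isComplement'_of_disjoint_and_mul_eq_univ (disjoint_iff.mpr hinf) ?_⟩
  rw [← normal_mul, hsup, coe_top]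

end Cfsg.Agent.Lib.TIHall
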