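import Mathlib
import Cfsg.Prelude.Def_OddOrderLocal
import Cfsg.Agent.Lib.TIHall.Complement
import Cfsg.Agent.Lib.Coprime.Sylow
import Cfsg.Agent.Lib.Coprime.Generation
import Cfsg.Agent.Lib.Components.GenFitting
import Cfsg.Agent.Lib.PUnique.Basic
import Cfsg.Agent.Lib.Frobenius.Basic

/-!
A non-normal TI Hall subgroup with a normal complement is a Frobenius complement.
-/

set_option autoImplicit false

namespace Cfsg.Agent.Lib.TIHall

open Subgroup Cfsg.Agent.Lib
open scoped Pointwise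

universe u

variable {G : Type u} [Group G] [Finite G] {M H : Subgroup G} {p : ℕ} [Fact p.Prime]

/-- If a conjugation-invariant set `T` of nontrivial elements of `H` has solvable pairs, then
`H` fixes a Sylow subgroup of `M`, provided every nontrivial element of `H` fixes only what `H`
fixes. -/
theorem exists_invariant_sylow [M.Normal] (hcop : (Nat.card H).Coprime (Nat.card M))
    (hfix : ∀ h ∈ H, h ≠ 1 → ∀ m ∈ M, h * m = m * h → m ∈ centralizer (H : Set G))
    (T : Set G) (hT1 : ∀ t ∈ T, t ∈ H ∧ t ≠ 1) (hTc : ∀ g ∈ H, ∀ t ∈ T, g * t * g⁻¹ ∈ T)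
    (hTne : T.Nonempty)
    (hD : ∀ a ∈ T, ∀ b ∈ T, ∃ D : Subgroup G, D ≤ H ∧ a ∈ D ∧ b ∈ D ∧ Group.IsSolvable D) :
    ∃ P : Sylow p M,
      H ≤ normalizer (((P : Subgroup M).map M.subtype : Subgroup G) : Set G) := by
  obtain ⟨t, ht⟩ := hTne
  have hN : ∀ A : Subgroup G, A ≤ normalizer (M : Set G) := fun A => by
    rw [normalizer_eq_top]; exact le_top
  have hcop' : ∀ A : Subgroup G, A ≤ H → (Nat.card A).Coprime (Nat.card M) :=
    fun A hA => Coprime.coprime_of_le_left hA hcop
  have hzH : zpowers t ≤ H := zpowers_le.mpr (hT1 t ht).1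
  have hsol : Group.IsSolvable (zpowers t) := inferInstance
  obtain ⟨R, hR⟩ := Coprime.exists_invariant_sylow (p := p) (hN (zpowers t)) (hcop' _ hzH)
    (Or.inl hsol)
  -- conjugating by elements of `C_M(H)` accounts for all Sylow subgroups fixed by `t`
  have hconj : ∀ S : Sylow p M,
      zpowers t ≤ normalizer (((S : Subgroup M).map M.subtype : Subgroup G) : Set G) →
      ∃ c ∈ M, c ∈ centralizer (H : Set G) ∧ ∀ x : G,
        x ∈ (S : Subgroup M).map M.subtype ↔ c⁻¹ * x * c ∈ (R : Subgroup M).map M.subtype := by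
    intro S hS
    obtain ⟨c, hc, rfl⟩ := Coprime.exists_centralizer_conj_eq (hN (zpowers t)) (hcop' _ hzH)
      (Or.inl hsol) hR hS
    refine ⟨c, c.2, hfix t (hT1 t ht).1 (hT1 t ht).2 c c.2
      (mem_centralizer_iff.mp hc t (mem_zpowers t)), fun x => ⟨?_, ?_⟩⟩
    · rintro ⟨y, hy, rfl⟩
      rw [Sylow.coe_subgroup_smul] at hy
      obtain ⟨z, hz, rfl⟩ := hy
      exact ⟨z, hz, by simp [MulAut.smul_def, mul_assoc]⟩
    · rintro ⟨z, hz, hzx⟩
      refine ⟨MulAut.conj c z, ?_, ?_⟩
      · rw [Sylow.coe_subgroup_smul]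
        exact ⟨z, hz, rfl⟩
      · have hzx' : (z : G) = (c : G)⁻¹ * x * c := hzx
        simp [hzx', mul_assoc]
  set RG := (R : Subgroup M).map M.subtype with hRG
  have hTR : ∀ b ∈ T, b ∈ normalizer (RG : Set G) := by
    intro b hb
    obtain ⟨D, hDH, htD, hbD, hDs⟩ := hD t ht b hb
    obtain ⟨S, hS⟩ := Coprime.exists_invariant_sylow (p := p) (hN D) (hcop' D hDH) (Or.inl hDs)
    obtain ⟨c, -, hcH, hcS⟩ := hconj S ((zpowers_le.mpr htD).trans hS)
    rw [mem_normalizer_iff]
    intro x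
    have hcb : c * b = b * c := (mem_centralizer_iff.mp hcH b (hDH hbD)).symm
    have hcb' : c⁻¹ * b = b * c⁻¹ := ((show Commute c b from hcb).inv_left).eq
    have h1 := (mem_normalizer_iff.mp (hS hbD) (c * x * c⁻¹))
    rw [hcS, hcS] at h1
    have e1 : c⁻¹ * (c * x * c⁻¹) * c = x := by group
    have e2 : c⁻¹ * (b * (c * x * c⁻¹) * b⁻¹) * c = b * x * b⁻¹ := by
      calc c⁻¹ * (b * (c * x * c⁻¹) * b⁻¹) * c = (c⁻¹ * b) * c * x * ((c⁻¹ * b) * c)⁻¹ := by group
        _ = b * x * b⁻¹ := by rw [hcb']; group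
    rwa [e1, e2] at h1
  refine ⟨R, fun g hg => ?_⟩
  letI := Coprime.sylowAction (p := p) (hN H)
  set S : Sylow p M := (⟨g, hg⟩ : H) • R with hSdef
  have hmemS : ∀ x : G, x ∈ (S : Subgroup M).map M.subtype ↔ g⁻¹ * x * g ∈ RG := by
    intro x
    rw [hSdef, Coprime.sylowAction_coe]
    constructor
    · rintro ⟨y, ⟨z, hz, rfl⟩, rfl⟩
      refine ⟨z, hz, ?_⟩
      change (z : G) = g⁻¹ * (g * (z : G) * g⁻¹) * g
      group
    · rintro ⟨z, hz, hzx⟩
      refine ⟨_, ⟨z, hz, rfl⟩, ?_⟩
      change g * (z : G) * g⁻¹ = x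
      have hzx' : (z : G) = g⁻¹ * x * g := hzx
      rw [hzx']; group
  have hSt : zpowers t ≤ normalizer (((S : Subgroup M).map M.subtype : Subgroup G) : Set G) := by
    rw [zpowers_le, mem_normalizer_iff]
    intro x
    rw [hmemS, hmemS]
    have ht' := hTR _ (hTc g⁻¹ (inv_mem hg) t ht)
    have h1 := mem_normalizer_iff.mp ht' (g⁻¹ * x * g)
    rwa [show g⁻¹ * t * g⁻¹⁻¹ * (g⁻¹ * x * g) * (g⁻¹ * t * g⁻¹⁻¹)⁻¹ = g⁻¹ * (t * x * t⁻¹) * g by
      group] at h1
  obtain ⟨c, hcM, hcH, hcS⟩ := hconj S hSt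
  have hx : c⁻¹ * g ∈ normalizer (RG : Set G) := by
    rw [mem_normalizer_iff]
    intro x
    have h1 := hcS (g * x * g⁻¹)
    rw [hmemS, show g⁻¹ * (g * x * g⁻¹) * g = x by group] at h1
    rw [h1, show c⁻¹ * g * x * (c⁻¹ * g)⁻¹ = c⁻¹ * (g * x * g⁻¹) * c by group]
  have hcomm : Commute c⁻¹ g :=
    (show Commute c g from (mem_centralizer_iff.mp hcH g hg).symm).inv_left
  have hgn : g ^ Nat.card H = 1 := congrArg Subtype.val (pow_card_eq_one' : (⟨g, hg⟩ : H) ^ Nat.card H = 1)
  have hcn : c⁻¹ ^ Nat.card M = 1 :=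
    congrArg Subtype.val (pow_card_eq_one' : (⟨c⁻¹, inv_mem hcM⟩ : M) ^ Nat.card M = 1)
  have h2 : c⁻¹ ^ Nat.card H ∈ normalizer (RG : Set G) := by
    have := Subgroup.pow_mem _ hx (Nat.card H)
    rwa [hcomm.mul_pow, hgn, mul_one] at this
  have h3 : c⁻¹ ∈ normalizer (RG : Set G) := by
    have hcop2 : (Nat.card H).Coprime (orderOf c⁻¹) :=
      hcop.coprime_dvd_right (orderOf_dvd_of_pow_eq_one hcn)
    obtain ⟨k, hk⟩ := exists_pow_eq_self_of_coprime hcop2
    rw [← hk]
    exact Subgroup.pow_mem _ h2 k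
  have := mul_mem (inv_mem h3) hx
  rwa [← mul_assoc, inv_mul_cancel, one_mul] at this

/-- A non-normal TI Hall subgroup with a normal complement is a Frobenius complement. -/
theorem exists_frobenius (hTI : Cfsg.IsTISubset (H : Set G)) [M.Normal]
    (hMH : M.IsComplement' H) (hcopH : (Nat.card H).Coprime H.index) (hnn : ¬ H.Normal) :
    ∃ (F : Type u) (_ : Group F) (_ : Finite F) (C : Subgroup F),
      Cfsg.IsFrobeniusComplement C ∧ Nonempty (H ≃* C) := by
  have hcop : (Nat.card H).Coprime (Nat.card M) := by rwa [← hMH.index_eq_card]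
  have hdis : M ⊓ H = ⊥ := disjoint_iff.mp hMH.disjoint
  set L := M ⊓ centralizer (H : Set G) with hL
  have hfix : ∀ h ∈ H, h ≠ 1 → ∀ m ∈ M, h * m = m * h → m ∈ centralizer (H : Set G) := by
    intro h hh hh1 m hm hcomm
    have hmN : m ∈ normalizer (H : Set G) := by
      by_contra hmN
      refine hh1 (hTI m hmN h hh ?_)
      rw [← hcomm, mul_inv_cancel_right]
      exact hh
    rw [mem_centralizer_iff]
    intro k hk
    have h1 : k * m * k⁻¹ * m⁻¹ ∈ M :=
      mul_mem (Subgroup.Normal.conj_mem inferInstance m hm k) (inv_mem hm)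
    have h2 : k * m * k⁻¹ * m⁻¹ ∈ H := by
      have := mul_mem hk ((mem_normalizer_iff.mp hmN k⁻¹).mp (inv_mem hk))
      simpa [mul_assoc] using this
    have h3 : k * m * k⁻¹ * m⁻¹ ∈ M ⊓ H := ⟨h1, h2⟩
    rwa [hdis, mem_bot, mul_inv_eq_one, mul_inv_eq_iff_eq_mul] at h3
  have hH1 : H ≠ ⊥ := fun e => hnn (e ▸ inferInstance)
  have hML : ¬ M ≤ L := by
    intro hle
    refine hnn ⟨fun h hh g => ?_⟩
    obtain ⟨⟨⟨m, hm⟩, ⟨k, hk⟩⟩, rfl⟩ := hMH.2 g
    have h1 : k * h * k⁻¹ ∈ H := H.mul_mem (H.mul_mem hk hh) (H.inv_mem hk)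
    have h2 := mem_centralizer_iff.mp (hle hm).2 _ h1
    show m * k * h * (m * k)⁻¹ ∈ H
    rw [mul_inv_rev, show m * k * h * (k⁻¹ * m⁻¹) = m * (k * h * k⁻¹) * m⁻¹ by group, ← h2,
      mul_inv_cancel_right]
    exact h1
  have hN : ∀ A : Subgroup G, A ≤ normalizer (M : Set G) := fun A => by
    rw [normalizer_eq_top]; exact le_top
  -- no noncyclic abelian subgroups in `H`
  have hpair : ∀ q : ℕ, q.Prime → ∀ a ∈ H, ∀ b ∈ H, Commute a b → a ^ q = 1 → b ^ q = 1 → b ≠ 1 →
      a ∈ zpowers b := by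
    intro q hq a ha b hb hab haq hbq hb1
    by_contra hab'
    refine hML (Coprime.le_of_pair hq ?_ (hN _) hab haq hbq hb1 hab' fun x hx hx1 m hm => ?_)
    · refine hcop.coprime_dvd_left ?_
      haveI := Fact.mk hq
      rw [← orderOf_eq_prime hbq hb1]
      exact H.orderOf_dvd_natCard hb
    · have hle : closure {a, b} ≤ H := (closure_le H).mpr (by
        rintro y (rfl | rfl) <;> assumption)
      exact ⟨hm.1, hfix x (hle hx) hx1 m hm.1 (mem_centralizer_singleton_iff.mp hm.2).symm⟩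
  -- the set `T`
  obtain ⟨T, hT1, hTc, hTne, hTD⟩ : ∃ T : Set G, (∀ t ∈ T, t ∈ H ∧ t ≠ 1) ∧
      (∀ g ∈ H, ∀ t ∈ T, g * t * g⁻¹ ∈ T) ∧ T.Nonempty ∧
      (∀ a ∈ T, ∀ b ∈ T, ∃ D : Subgroup G, D ≤ H ∧ a ∈ D ∧ b ∈ D ∧ Group.IsSolvable D) := by
    by_cases heven : 2 ∣ Nat.card H
    · refine ⟨{t | t ∈ H ∧ orderOf t = 2}, fun t ht => ⟨ht.1, fun e => ?_⟩, fun g hg t ht =>
        ⟨H.mul_mem (H.mul_mem hg ht.1) (H.inv_mem hg), ?_⟩, ?_, ?_⟩
      · have := ht.2
        rw [e, orderOf_one] at this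
        norm_num at this
      · rw [← ht.2]
        exact orderOf_injective (MulAut.conj g).toMonoidHom (MulAut.conj g).injective t
      · obtain ⟨⟨t, ht⟩, ht2⟩ := exists_prime_orderOf_dvd_card' (G := H) 2 heven
        exact ⟨t, ht, by rwa [Subgroup.orderOf_mk] at ht2⟩
      · rintro a ⟨ha, ha2⟩ b ⟨hb, hb2⟩
        have haa : a⁻¹ = a := inv_eq_of_mul_eq_one_right (by rw [← sq, ← ha2, pow_orderOf_eq_one])
        have hbb : b⁻¹ = b := inv_eq_of_mul_eq_one_right (by rw [← sq, ← hb2, pow_orderOf_eq_one])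
        have hn : zpowers a ≤ normalizer ((zpowers (a * b) : Subgroup G) : Set G) := by
          refine Coprime.le_normalizer_of_conj_mem ?_
          intro x hx y hy
          obtain ⟨j, rfl⟩ := mem_zpowers_iff.mp hx
          obtain ⟨i, rfl⟩ := mem_zpowers_iff.mp hy
          have key : ∀ y ∈ zpowers (a * b), a * y * a⁻¹ ∈ zpowers (a * b) := by
            rintro _ ⟨i, rfl⟩
            refine ⟨-i, ?_⟩
            change (a * b) ^ (-i) = a * (a * b) ^ i * a⁻¹
            rw [← conj_zpow, zpow_neg, ← inv_zpow, mul_inv_rev, haa, hbb,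
              show a * (a * b) * a = (a * a) * b * a by group,
              show a * a = 1 by nth_rewrite 1 [← haa]; exact inv_mul_cancel a, one_mul]
          induction j using Int.induction_on with
          | zero => simp
          | succ j ih =>
            rw [zpow_add_one, show a ^ (j : ℤ) * a * (a * b) ^ i * (a ^ (j : ℤ) * a)⁻¹ =
              a * (a ^ (j : ℤ) * (a * b) ^ i * (a ^ (j : ℤ))⁻¹) * a⁻¹ by group]
            exact key _ (ih (zpow_mem (mem_zpowers a) _))
          | pred j ih =>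
            rw [zpow_sub_one, haa, show a ^ (-(j : ℤ)) * a * (a * b) ^ i * (a ^ (-(j : ℤ)) * a)⁻¹ =
              a * (a ^ (-(j : ℤ)) * (a * b) ^ i * (a ^ (-(j : ℤ)))⁻¹) * a⁻¹ by group]
            exact key _ (ih (zpow_mem (mem_zpowers a) _))
        refine ⟨zpowers (a * b) ⊔ zpowers a, sup_le (zpowers_le.mpr (H.mul_mem ha hb))
          (zpowers_le.mpr ha), mem_sup_right (mem_zpowers a), ?_,
          Components.isSolvable_sup hn inferInstance inferInstance⟩
        have := mul_mem (mem_sup_right (inv_mem (mem_zpowers a)) :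
          a⁻¹ ∈ zpowers (a * b) ⊔ zpowers a) (mem_sup_left (mem_zpowers (a * b)))
        rwa [inv_mul_cancel_left] at this
    · -- odd order: all Sylow subgroups cyclic, so `H` is solvable
      haveI : IsZGroup H := by
        refine ⟨fun q hq P => ?_⟩
        haveI := Fact.mk hq
        have hu : ∀ A B : Subgroup P, Nat.card A = q → Nat.card B = q → A = B := by
          intro A B hA hB
          haveI : Nontrivial P := by
            refine Finite.one_lt_card_iff_nontrivial.mp ?_
            exact lt_of_lt_of_le (hA.symm ▸ hq.one_lt) (Nat.le_of_dvd Nat.card_pos A.card_subgroup_dvd_card)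
          obtain ⟨k, hk0, hk⟩ := P.2.center_nontrivial |> fun h =>
            (P.2.to_subgroup (center (P : Subgroup H))).nontrivial_iff_card.mp h
          obtain ⟨⟨z, hzc⟩, hz⟩ := exists_prime_orderOf_dvd_card' (G := center (P : Subgroup H)) q
            (hk ▸ dvd_pow_self q hk0.ne')
          rw [Subgroup.orderOf_mk] at hz
          have key : ∀ A : Subgroup P, Nat.card A = q → A = zpowers z := by
            intro A hA
            obtain ⟨⟨a, haA⟩, ha⟩ := exists_prime_orderOf_dvd_card' (G := A) q hA.symm.dvd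
            rw [Subgroup.orderOf_mk] at ha
            have h1 : zpowers a = A :=
              Subgroup.eq_of_le_of_card_ge (zpowers_le.mpr haA)
                (by rw [Nat.card_zpowers, ha]; exact hA.le)
            rw [← h1]
            let f : P →* G := H.subtype.comp (P : Subgroup H).subtype
            have hf : Function.Injective f :=
              H.subtype_injective.comp (P : Subgroup H).subtype_injective
            have h2 := hpair q hq (f a) (a : H).2 (f z) (z : H).2
              ((show Commute a z from mem_center_iff.mp hzc a).map f)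
              (by rw [← map_pow, orderOf_dvd_iff_pow_eq_one.mp ha.dvd, map_one])
              (by rw [← map_pow, orderOf_dvd_iff_pow_eq_one.mp hz.dvd, map_one])
              (fun e => by
                rw [← orderOf_eq_one_iff, orderOf_injective f hf, hz] at e
                exact hq.ne_one e)
            obtain ⟨i, hi⟩ := mem_zpowers_iff.mp h2
            rw [← map_zpow] at hi
            refine Subgroup.eq_of_le_of_card_ge (zpowers_le.mpr (mem_zpowers_iff.mpr ⟨i, hf hi⟩)) ?_
            rw [Nat.card_zpowers, Nat.card_zpowers, ha, hz]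
          rw [key A hA, key B hB]
        rcases PUnique.isCyclic_or_quaternion P.2 hu with h | ⟨hq2, n, ⟨e⟩⟩
        · exact h
        · exfalso
          subst hq2
          refine heven ((?_ : 2 ∣ Nat.card (P : Subgroup H)).trans (P : Subgroup H).card_subgroup_dvd_card)
          rw [Nat.card_congr e.toEquiv, Nat.card_eq_fintype_card, QuaternionGroup.card]
          exact ⟨2 * 2 ^ n, by ring⟩
      have hsolv : Group.IsSolvable H := inferInstance
      refine ⟨{t | t ∈ H ∧ t ≠ 1}, fun t ht => ht, fun g hg t ht =>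
        ⟨H.mul_mem (H.mul_mem hg ht.1) (H.inv_mem hg), fun e => ht.2 (conj_eq_one_iff.mp e)⟩,
        ?_, fun a ha b hb => ⟨H, le_rfl, ha.1, hb.1, hsolv⟩⟩
      obtain ⟨t, ht, ht1⟩ := (Subgroup.bot_or_exists_ne_one H).resolve_left hH1
      exact ⟨t, ht, ht1⟩
  -- a prime with an invariant Sylow subgroup outside `L`
  obtain ⟨R, r, hr, hRp, hRM, hHR, hRL⟩ : ∃ (R : Subgroup G) (r : ℕ), r.Prime ∧ IsPGroup r R ∧
      R ≤ M ∧ H ≤ normalizer (R : Set G) ∧ ¬ R ≤ L := by
    by_contra hno
    push Not at hno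
    refine hML ?_
    have hdvd : Nat.card M ∣ Nat.card L := by
      rw [Nat.dvd_iff_prime_pow_dvd_dvd]
      intro q k hq hk
      haveI := Fact.mk hq
      obtain ⟨P, hP⟩ := exists_invariant_sylow (p := q) hcop hfix T hT1 hTc hTne hTD
      have hle := hno _ q hq (P.2.map M.subtype) (map_subtype_le _) hP
      refine dvd_trans ?_ (card_dvd_of_le hle)
      rw [card_map_of_injective M.subtype_injective]
      exact P.pow_dvd_card_of_pow_dvd_card hk
    exact (Subgroup.eq_of_le_of_card_ge (inf_le_left : L ≤ M)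
      (Nat.le_of_dvd Nat.card_pos hdvd)).ge
  haveI := Fact.mk hr
  set S := R ⊓ L with hS
  have hSR : S < R := lt_of_le_of_ne inf_le_left fun e => hRL (inf_eq_left.mp e)
  set U := R ⊓ normalizer (S : Set G) with hU
  have hSU : S ≤ U := le_inf inf_le_left le_normalizer
  have hUS : ¬ U ≤ S := by
    intro hle
    haveI := hRp.isNilpotent
    have hlt : S.subgroupOf R < ⊤ :=
      lt_top_iff_ne_top.mpr fun e => hSR.not_ge (subgroupOf_eq_top.mp e)
    obtain ⟨x, hxn, hxS⟩ := SetLike.exists_of_lt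
      (Group.normalizerCondition_of_isNilpotent (S.subgroupOf R) hlt)
    refine hxS (hle ⟨x.2, ?_⟩)
    show (x : G) ∈ normalizer (S : Set G)
    rw [mem_normalizer_iff]
    intro q
    refine ⟨fun hq => ?_, fun hq => ?_⟩
    · exact (mem_normalizer_iff.mp hxn ⟨q, hq.1⟩).mp hq
    · have hqR : q ∈ R := by
        have := mul_mem (mul_mem (inv_mem x.2) hq.1) x.2
        simpa [mul_assoc] using this
      exact (mem_normalizer_iff.mp hxn ⟨q, hqR⟩).mpr hq
  have hHS : H ≤ normalizer (S : Set G) := by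
    refine Coprime.le_normalizer_of_conj_mem fun h hh x hx => ?_
    rw [mem_centralizer_iff.mp hx.2.2 h hh, mul_inv_cancel_right]
    exact hx
  set Y := U ⊔ H with hY
  have hYS : Y ≤ normalizer (S : Set G) := sup_le inf_le_right hHS
  haveI : (S.subgroupOf Y).Normal := normal_subgroupOf_of_le_normalizer hYS
  set π := QuotientGroup.mk' (S.subgroupOf Y) with hπ
  set K := (U.subgroupOf Y).map π with hK
  set C := (H.subgroupOf Y).map π with hC
  have hHU : H ≤ normalizer (U : Set G) := by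
    refine Coprime.le_normalizer_of_conj_mem fun h hh x hx =>
      ⟨(mem_normalizer_iff.mp (hHR hh) x).mp hx.1, ?_⟩
    exact (normalizer (S : Set G)).mul_mem ((normalizer (S : Set G)).mul_mem (hHS hh) hx.2)
      ((normalizer (S : Set G)).inv_mem (hHS hh))
  haveI : (U.subgroupOf Y).Normal :=
    normal_subgroupOf_of_le_normalizer (sup_le le_normalizer hHU)
  haveI : K.Normal := Subgroup.Normal.map inferInstance _ (QuotientGroup.mk'_surjective _)
  have hUM : U ≤ M := inf_le_left.trans hRM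
  have hker : ∀ y : Y, π y = 1 ↔ (y : G) ∈ S := fun y => QuotientGroup.eq_one_iff y
  have hsmall : ∀ h ∈ H, h ∈ U → h = 1 := fun h hh hhU => mem_bot.mp (hdis ▸ ⟨hUM hhU, hh⟩)
  have hinj : Function.Injective (π.comp (Subgroup.inclusion (le_sup_right : H ≤ Y))) := by
    rw [← MonoidHom.ker_eq_bot_iff, eq_bot_iff]
    intro h hh
    have := (hker _).mp hh
    exact mem_bot.mpr (Subtype.ext (hsmall _ h.2 (hSU this)))
  have hcompl : K.IsComplement' C := by
    refine isComplement'_of_disjoint_and_mul_eq_univ ?_ ?_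
    · rw [disjoint_iff, eq_bot_iff]
      rintro _ ⟨⟨y, hy, rfl⟩, z, hz, hzy⟩
      rw [mem_bot, hker]
      have h1 : ((y : G))⁻¹ * z ∈ S := by
        have h2 : π (y⁻¹ * z) = 1 := by rw [map_mul, map_inv, hzy, inv_mul_cancel]
        exact (hker _).mp h2
      have h3 : (z : G) ∈ U := by
        have hy' : (y : G) ∈ U := hy
        have := mul_mem hy' (hSU h1 : (y : G)⁻¹ * z ∈ U)
        rwa [mul_inv_cancel_left] at this
      have h4 : (z : G) = 1 := hsmall _ hz h3
      rw [h4, mul_one] at h1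
      exact inv_mem_iff.mp h1
    · refine Set.eq_univ_of_forall fun q => ?_
      obtain ⟨⟨y, hy⟩, rfl⟩ := QuotientGroup.mk'_surjective (S.subgroupOf Y) q
      have hy' : y ∈ (U : Set G) * (H : Set G) := by
        rw [← Subgroup.coe_mul_of_right_le_normalizer_left U H hHU]
        exact hy
      obtain ⟨u, hu, h, hh, rfl⟩ := hy'
      exact ⟨π ⟨u, mem_sup_left hu⟩, ⟨_, hu, rfl⟩, π ⟨h, mem_sup_right hh⟩, ⟨_, hh, rfl⟩,
        (map_mul π _ _).symm⟩
  refine ⟨Y ⧸ S.subgroupOf Y, inferInstance, inferInstance, C,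
    Frobenius.isFrobeniusComplement_of_fpf hcompl ?_ ?_ ?_, ?_⟩
  · intro e
    refine hUS fun u hu => ?_
    have h1 : π ⟨u, mem_sup_left hu⟩ ∈ K := ⟨_, hu, rfl⟩
    rw [e, mem_bot] at h1
    exact (hker _).mp h1
  · intro e
    obtain ⟨h, hh, hh1⟩ := (Subgroup.bot_or_exists_ne_one H).resolve_left hH1
    have h1 : π ⟨h, mem_sup_right hh⟩ ∈ C := ⟨_, hh, rfl⟩
    rw [e, mem_bot] at h1
    exact hh1 (hsmall h hh (hSU ((hker _).mp h1)))
  · rintro _ ⟨h, hh, rfl⟩ hπh
    have hhH : (h : G) ∈ H := hh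
    rw [eq_bot_iff]
    rintro _ ⟨⟨x, hx, rfl⟩, hcx⟩
    rw [mem_bot, hker]
    have hh1 : (h : G) ≠ 1 := fun e => hπh ((hker h).mpr (e ▸ one_mem S))
    have hcop' : (Nat.card (zpowers (h : G))).Coprime (Nat.card S) :=
      (Coprime.coprime_of_le_left (zpowers_le.mpr hhH) hcop).coprime_dvd_right
        (card_dvd_of_le (hSU.trans hUM))
    have hxh : (x : G)⁻¹ * ((h : G) * x * (h : G)⁻¹) ∈ S := by
      have h2 : π (x⁻¹ * (h * x * h⁻¹)) = 1 := by
        have e := mem_centralizer_singleton_iff.mp hcx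
        simp only [map_mul, map_inv]
        rw [← e]
        group
      exact (hker _).mp h2
    obtain ⟨c, hc, hcS⟩ := Coprime.exists_centralizer_mem_leftCoset
      (A := zpowers (h : G)) (N := S) (k := (x : G))
      ((zpowers_le.mpr hhH).trans hHS) hcop' (Or.inl inferInstance) (by
        intro a ha
        obtain ⟨n, -, rfl⟩ : ∃ n : ℕ, n < orderOf (h : G) ∧ (h : G) ^ n = a := by
          classical
          obtain ⟨n, hn, hna⟩ := Finset.mem_image.mp
            ((mem_zpowers_iff_mem_range_orderOf (x := (h : G)) (y := a)).mp ha)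
          exact ⟨n, Finset.mem_range.mp hn, hna⟩
        induction n with
        | zero => simp
        | succ n ih =>
          have hn : (h : G) * ((x : G)⁻¹ * ((h : G) ^ n * x * ((h : G) ^ n)⁻¹)) * (h : G)⁻¹ ∈ S :=
            (mem_normalizer_iff.mp (hHS hhH) _).mp (ih (Subgroup.pow_mem _ (mem_zpowers _) n))
          have := mul_mem hxh hn
          rw [pow_succ']
          simpa [mul_assoc] using this)
    have hcU : c ∈ U := by
      have hx' : (x : G) ∈ U := hx
      have := mul_mem hx' (hSU hcS : (x : G)⁻¹ * c ∈ U)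
      rwa [mul_inv_cancel_left] at this
    have hcL : c ∈ S := by
      refine ⟨hcU.1, hUM hcU, hfix h hhH hh1 c (hUM hcU) ?_⟩
      exact mem_centralizer_iff.mp hc h (mem_zpowers _)
    have := mul_mem hcL (inv_mem hcS)
    rwa [show c * ((x : G)⁻¹ * c)⁻¹ = x by group] at this
  · refine ⟨(MonoidHom.ofInjective hinj).trans (MulEquiv.subgroupCongr ?_)⟩
    rw [hC, MonoidHom.range_comp, Subgroup.inclusion_range]

end Cfsg.Agent.Lib.TIHall
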